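import Groth.Agent.Lib.NeronModel13.Comp
import Groth.Prelude.Def_W4bk4git07Quot
import Mathlib.AlgebraicGeometry.Morphisms.Flat
import Mathlib.RingTheory.Flat.TorsionFree

/-!
# A geometric quotient of a normal variety is normal
-/

set_option autoImplicit false
set_option linter.all false
set_option backward.isDefEq.respectTransparency false

universe u

open CategoryTheory CategoryTheory.Limits MonoidalCategory CartesianMonoidalCategory MonObj AlgebraicGeometry TopologicalSpace

noncomputable section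

namespace GrothLib.GeomQuotNormal13

theorem eq_zero_of_mul_eq_zero {Z X : Scheme.{u}} [IsIntegral X] (g : Z ⟶ X) [Flat g]
    {P : X.Opens} {W : Z.Opens} (hW : W ≤ g ⁻¹ᵁ P) {s : Γ(X, P)} (hs : s ≠ 0) (t : Γ(Z, W))
    (h : g.appLE P W hW s * t = 0) : t = 0 := by
  refine Z.IsSheaf.section_ext fun z hz => ?_
  obtain ⟨V, hV, hzV, hVP⟩ := exists_isAffineOpen_mem_and_subset (show g z ∈ P from hW hz)
  obtain ⟨V', hV', hzV', hV'W⟩ := exists_isAffineOpen_mem_and_subset
    (show z ∈ W ⊓ g ⁻¹ᵁ V from ⟨hz, hzV⟩)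
  have hV'le : V' ≤ W := fun w hw => (hV'W hw).1
  have hV'V : V' ≤ g ⁻¹ᵁ V := fun w hw => (hV'W hw).2
  refine ⟨V', hV'le, hzV', ?_⟩
  haveI : Nonempty (V : Scheme.{u}) := ⟨⟨_, hzV⟩⟩
  have hfl : (g.appLE V V' hV'V).hom.Flat := g.flat_appLE hV hV' hV'V
  letI := (g.appLE V V' hV'V).hom.toAlgebra
  haveI : Module.Flat Γ(X, V) Γ(Z, V') := hfl
  have hs' : X.presheaf.map (homOfLE hVP).op s ≠ 0 := by
    intro h0
    exact hs (map_injective_of_isIntegral X (homOfLE hVP) (h0.trans (map_zero _).symm))
  rw [map_zero]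
  apply Module.Flat.isSMulRegular_of_nonZeroDivisors (M := Γ(Z, V')) (mem_nonZeroDivisors_of_ne_zero hs')
  show X.presheaf.map (homOfLE hVP).op s • _ = X.presheaf.map (homOfLE hVP).op s • (0 : Γ(Z, V'))
  rw [smul_zero, Algebra.smul_def]
  have h1 := congrArg (Z.presheaf.map (homOfLE hV'le).op) h
  rw [map_mul, map_zero, ← CommRingCat.comp_apply, Scheme.Hom.appLE_map] at h1
  show g.appLE V V' hV'V (X.presheaf.map (homOfLE hVP).op s) * _ = 0
  rw [← CommRingCat.comp_apply, Scheme.Hom.map_appLE]
  exact h1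

variable {S : Scheme.{u}} {G X Y : Over S} [GrpObj G] {a : AlgGrp.Action G X} {φ : X ⟶ Y}

theorem isNormalScheme_of_isGeomQuot (h : GIT.IsGeomQuot a φ) [IsIntegral X.left]
    (hX : Pi1.IsNormalScheme X.left) [Flat (snd G X).left] : Pi1.IsNormalScheme Y.left := by
  have hne : ∀ U : Y.left.Opens, Nonempty (U : Scheme.{u}) → Nonempty ((φ.left ⁻¹ᵁ U : X.left.Opens) : Scheme.{u}) := by
    rintro U ⟨⟨y, hy⟩⟩
    obtain ⟨x, rfl⟩ := h.surj y
    exact ⟨⟨x, hy⟩⟩
  haveI : IsReduced Y.left := ⟨fun U => isReduced_of_injective (φ.left.app U).hom (h.sections U).1⟩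
  haveI : IrreducibleSpace Y.left := by
    haveI : Nonempty Y.left := ⟨φ.left (Nonempty.some inferInstance)⟩
    refine { toPreirreducibleSpace := ⟨?_⟩, toNonempty := inferInstance }
    have h1 : IsPreirreducible (φ.left '' Set.univ) :=
      (PreirreducibleSpace.isPreirreducible_univ (X := X.left)).image _ φ.left.continuous.continuousOn
    rwa [Set.image_univ, h.surj.range_eq] at h1
  haveI : IsIntegral Y.left := isIntegral_of_irreducibleSpace_of_isReduced _
  intro y
  obtain ⟨U, hU, hyU, -⟩ := exists_isAffineOpen_mem_and_subset (U := (⊤ : Y.left.Opens)) (x := y) trivial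
  haveI hUne : Nonempty (U : Scheme.{u}) := ⟨⟨y, hyU⟩⟩
  haveI := hne U hUne
  haveI := functionField_isFractionRing_of_isAffineOpen Y.left U hU
  let P := φ.left ⁻¹ᵁ U
  let θ : Γ(Y.left, U) →+* X.left.functionField := (X.left.germToFunctionField P).hom.comp (φ.left.app U).hom
  have hθ : Function.Injective θ := (X.left.germToFunctionField_injective P).comp (h.sections U).1
  let ψ : Y.left.functionField →+* X.left.functionField := IsFractionRing.lift hθ
  haveI hic : IsIntegrallyClosed Γ(Y.left, U) := by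
    refine (isIntegrallyClosed_iff Y.left.functionField).2 fun {z} hz => ?_
    obtain ⟨p, hp, hp0⟩ := hz
    have hψz : (X.left.germToFunctionField P).hom.IsIntegralElem (ψ z) := by
      refine ⟨p.map (φ.left.app U).hom, hp.map _, ?_⟩
      rw [Polynomial.eval₂_map]
      have e : (X.left.germToFunctionField P).hom.comp (φ.left.app U).hom =
          ψ.comp (algebraMap Γ(Y.left, U) Y.left.functionField) :=
        RingHom.ext fun r => (IsFractionRing.lift_algebraMap hθ r).symm
      rw [e, ← Polynomial.hom_eval₂, hp0, map_zero]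
    obtain ⟨f, hf⟩ := NeronModel13.exists_germToFunctionField_eq (fun x => (hX x).2) P (ψ z) hψz
    obtain ⟨num, den, hden, hz'⟩ := IsFractionRing.div_surjective (A := Γ(Y.left, U)) z
    have hden0 : den ≠ 0 := nonZeroDivisors.ne_zero hden
    have hFden : φ.left.app U den ≠ 0 := fun h0 => hden0 ((h.sections U).1 (h0.trans (map_zero _).symm))
    have hzd : z * algebraMap Γ(Y.left, U) Y.left.functionField den = algebraMap _ _ num := by
      rw [← hz', div_mul_cancel₀]
      exact (map_ne_zero_iff _ (IsFractionRing.injective _ _)).2 hden0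
    have hrel : f * φ.left.app U den = φ.left.app U num := by
      apply X.left.germToFunctionField_injective P
      rw [map_mul, hf]
      have h1 := congrArg ψ hzd
      rw [map_mul] at h1
      rw [show ψ (algebraMap _ _ den) = θ den from IsFractionRing.lift_algebraMap hθ den,
        show ψ (algebraMap _ _ num) = θ num from IsFractionRing.lift_algebraMap hθ num] at h1
      exact h1
    have hinv : GIT.IsInvSection a φ U f := by
      have hmem : ∀ r, GIT.IsInvSection a φ U (φ.left.app U r) := fun r => by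
        have := (h.sections U).2
        exact this.subset ⟨r, rfl⟩
      have h1 : a.act.left.appLE P (a.act.left ⁻¹ᵁ P ⊓ (snd G X).left ⁻¹ᵁ P) inf_le_left (f * φ.left.app U den) =
          (snd G X).left.appLE P (a.act.left ⁻¹ᵁ P ⊓ (snd G X).left ⁻¹ᵁ P) inf_le_right (f * φ.left.app U den) := by
        rw [hrel]; exact hmem num
      rw [map_mul, map_mul, show a.act.left.appLE P (a.act.left ⁻¹ᵁ P ⊓ (snd G X).left ⁻¹ᵁ P) inf_le_left (φ.left.app U den) = _
        from hmem den, ← sub_eq_zero, ← sub_mul, mul_comm] at h1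
      exact sub_eq_zero.1 (eq_zero_of_mul_eq_zero (snd G X).left inf_le_right hFden _ h1)
    obtain ⟨c, hc⟩ := (h.sections U).2.superset hinv
    refine ⟨c, ?_⟩
    apply ψ.injective
    rw [show ψ (algebraMap _ _ c) = θ c from IsFractionRing.lift_algebraMap hθ c, ← hf]
    exact congrArg _ hc
  letI := TopCat.Presheaf.algebra_section_stalk Y.left.presheaf (⟨y, hyU⟩ : U)
  haveI := hU.isLocalization_stalk ⟨y, hyU⟩
  let Q := (hU.primeIdealOf ⟨y, hyU⟩).asIdeal
  have hle : Q.primeCompl ≤ nonZeroDivisors Γ(Y.left, U) := Q.primeCompl_le_nonZeroDivisors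
  exact ⟨IsLocalization.isDomain_of_le_nonZeroDivisors (S := Y.left.presheaf.stalk y) (M := Q.primeCompl) hle,
    isIntegrallyClosed_of_isLocalization (Y.left.presheaf.stalk y) Q.primeCompl hle⟩

end GrothLib.GeomQuotNormal13
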